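import Cfsg.Agent.Mrg.Omega.NOThreeL.ATwo.ExactQ
import Cfsg.Agent.Omega.NOThreeL.ATwo.Fam


/-!
# NO-3L A2, all `q` (text #16411 (2), (3), helper69): the family of axes, centres and root groups

`h : CompsQ M U U' a b w`, `Y = U ∩ C_G(V)`:

* `ax M U i = U ∩ C_G(i-th factor)`, `cen`: the elements `y ∈ Y` with `pi (u i) y = y` (`u i` acts as `up` on the
  `i`-th factor only), `rt i = (cen i)^ρ`;
* `CompsQ.fam` : they form a `Fam (N_G(U)) U Y`.
-/

set_option autoImplicit false
set_option Elab.async false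

namespace Cfsg.Agent.Omega.NOThreeL.ATwo

open Subgroup Cfsg Cfsg.Agent.ZN Cfsg.Agent.ZN.ChoiceBase
open Cfsg.Agent.Omega.MinPar Cfsg.Agent.Omega.FFThm
open Cfsg.Agent.MinSimple.VModule (le_normalizer_zl)
open Cfsg.Agent.Lib.SL2Mat
open Cfsg.Agent.Omega.NatPair (ap ap_mul ap_one ap_inv_ap ap_ap_inv exists_ap ap_add)
open Cfsg.Agent.Omega.IId (Ind cj_mem cj_mem' e_inj acts_mul acts_inv acts_one sg sg_spec e_one e_inv fac
  exists_trans exists_fac)

universe u

variable {G : Type u} [Group G] {F : Type} [Field F] {S P : Subgroup G} {k : ℕ}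

/-- `u` acts as `up b`: `b i = 0` if and only if `u` centralises the `i`-th factor. -/
theorem up_eq_zero_iff {M : NatK F S P (zl S P) ⊥ k} {u : G} {b : Fin k → F} (hu : u ∈ P) (h : Up M u b)
    (i : Fin k) : b i = 0 ↔ u ∈ centralizer (fac M i : Set G) := by
  constructor
  · intro h0
    rw [mem_centralizer_iff]
    intro v hv
    have h1 : u * v * u⁻¹ = v := by
      refine e_inj M (cj_mem hu hv.1) hv.1 (funext fun j => ?_)
      rw [h.1 v hv.1 j]
      by_cases hj : j = i
      · rw [hj]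
        change ap (up (b i)) _ = _
        rw [h0, up_zero, ap_one]
      · rw [hv.2 j hj]
        apply NatPair.ext2
        · rw [NatPair.ap_zero']; simp
        · rw [NatPair.ap_one']; simp
    calc v * u = u * v * u⁻¹ * u := by rw [h1]
      _ = u * v := by group
  · intro hc
    obtain ⟨v, hv, he⟩ := exists_fac M i ![0, 1]
    have h1 := mem_centralizer_iff.1 hc v hv
    have h2 : M.e (u * v * u⁻¹) i = ap (up (b i)) (M.e v i) := h.1 v hv.1 i
    have h3 : u * v * u⁻¹ = v := by rw [← h1]; group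
    rw [h3, he] at h2
    have h4 := congrFun h2 0
    rw [NatPair.ap_zero'] at h4
    simp at h4
    exact h4.symm

variable {M : NatK F S P (zl S P) ⊥ k}

namespace CompsQ

variable [CharP F 2] {a b w : G} {U U' : Subgroup G}

/-- The `i`-th centre, for `v` acting as `up` on the `i`-th factor. -/
def cenS (h : CompsQ M U U' a b w) {v : G} (hv : v ∈ U) : Subgroup G where
  carrier := {y | y ∈ U ∧ y ∈ centralizer (zl S P : Set G) ∧ pi a b v y = y}
  mul_mem' := by
    rintro x y ⟨hx, hxD, hxe⟩ ⟨hy, hyD, hye⟩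
    refine ⟨mul_mem hx hy, mul_mem hxD hyD, ?_⟩
    rw [h.co.pi_mul hv hx hxD hy hyD, hxe, hye]
  one_mem' := ⟨one_mem _, one_mem _, h.co.pi_one⟩
  inv_mem' := by
    rintro x ⟨hx, hxD, hxe⟩
    rw [h.co.sq' hx]
    exact ⟨hx, hxD, hxe⟩

theorem mem_cenS {h : CompsQ M U U' a b w} {v : G} {hv : v ∈ U} {y : G} :
    y ∈ h.cenS hv ↔ y ∈ U ∧ y ∈ centralizer (zl S P : Set G) ∧ pi a b v y = y := Iff.rfl

variable (h : CompsQ M U U' a b w)
include h

/-- `y` in the `i`-th centre: `pi u y` depends only on the `i`-th coordinate of `u`. -/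
theorem pi_eq_of {i : Fin k} {v : G} (hv : v ∈ U) (hvA : Up M v (Pi.single i 1)) {u u1 y : G} (hu : u ∈ U)
    (hu1 : u1 ∈ U) {β γ : Fin k → F} (hβ : Up M u β) (hγ : Up M u1 γ) (he : β i = γ i) (hy : y ∈ U)
    (hyD : y ∈ centralizer (zl S P : Set G)) (hye : pi a b v y = y) : pi a b u y = pi a b u1 y := by
  have h1 : pi a b (u * u1) y = 1 := by
    have h2 : (u * u1 ∈ U) := mul_mem hu hu1
    have h3 := Up.mul (h.UP hu1) hβ hγ
    rw [← hye]
    refine h.orth h2 hv h3 hvA (fun j => ?_) (fun j => ?_) hy hyD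
    · by_cases hj : j = i
      · rw [hj, Pi.single_eq_same]; exact Or.inr rfl
      · rw [Pi.single_eq_of_ne hj]; exact Or.inl rfl
    · by_cases hj : j = i
      · rw [hj, Pi.add_apply, he]
        exact Or.inl (CharTwo.add_self_eq_zero _)
      · rw [Pi.single_eq_of_ne hj]; exact Or.inr rfl
  rw [h.co.mul_pi hu hu1 hyD] at h1
  have h4 := (h.co.pi_mem (y := y) hu1 hyD).1
  have h5 := eq_inv_of_mul_eq_one_left h1
  rw [h5, h.co.sq' h4]

/-- `y` in the `i`-th centre: `pi u y` is in the `i`-th centre. -/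
theorem pi_mem_cen {i : Fin k} {v : G} (hv : v ∈ U) (hvA : Up M v (Pi.single i 1)) {u y : G} (hu : u ∈ U)
    (hy : y ∈ U) (hyD : y ∈ centralizer (zl S P : Set G)) (hye : pi a b v y = y) :
    pi a b v (pi a b u y) = pi a b u y := by
  obtain ⟨β, hβ⟩ := h.exists_b hu
  obtain ⟨u1, hu1, hu1A⟩ := h.exists_up (Pi.single i (β i))
  have h1 : pi a b u y = pi a b u1 y :=
    h.pi_eq_of hv hvA hu hu1 hβ hu1A (by rw [Pi.single_eq_same]) hy hyD hye
  rw [h1]
  -- the complement `c`
  obtain ⟨c, hc, hcA⟩ := h.exists_up (1 - Pi.single i 1)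
  have hc01 : ∀ j, (Pi.single i 1 : Fin k → F) j = 0 ∨ (Pi.single i 1 : Fin k → F) j = 1 := by
    intro j
    by_cases hj : j = i
    · rw [hj, Pi.single_eq_same]; exact Or.inr rfl
    · rw [Pi.single_eq_of_ne hj]; exact Or.inl rfl
  obtain ⟨m1, d1⟩ := h.co.pi_mem (y := y) hu1 hyD
  have h2 : pi a b c (pi a b u1 y) = 1 := by
    rw [h.comm hc hu1 hcA hu1A (fun j => ?_) hy hyD]
    · have h3 : pi a b c y = 1 := by
        rw [← hye]
        refine h.orth hc hv hcA hvA hc01 (fun j => ?_) hy hyD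
        by_cases hj : j = i
        · left
          rw [hj, Pi.sub_apply, Pi.single_eq_same, Pi.one_apply, sub_self]
        · right
          rw [Pi.single_eq_of_ne hj]
      rw [h3, h.co.pi_one]
    · by_cases hj : j = i
      · left
        rw [hj, Pi.sub_apply, Pi.single_eq_same, Pi.one_apply, sub_self]
      · right
        rw [Pi.single_eq_of_ne hj]
  have h4 : pi a b (v * c) (pi a b u1 y) = pi a b a (pi a b u1 y) := by
    refine h.co.pi_congr (mul_mem hv hc) h.co.aU ?_ m1 d1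
    refine mem_cent_of_eq (M := M) (mul_mem (h.UP hv) (h.UP hc)) h.aP (Up.mul (h.UP hc) hvA hcA) ?_
    have e : Pi.single i 1 + (1 - Pi.single i 1) = (1 : Fin k → F) := by abel
    rw [e]
    exact h.aA
  rw [h.co.pi_a m1 d1, h.co.mul_pi hv hc d1, h2, mul_one] at h4
  exact h4

/-- `pi u y = 1` if `y` is in the `i`-th centre and `u` centralises the `i`-th factor. -/
theorem pi_cen_eq_one {i : Fin k} {v : G} (hv : v ∈ U) (hvA : Up M v (Pi.single i 1)) {u y : G} (hu : u ∈ U)
    {β : Fin k → F} (hβ : Up M u β) (h0 : β i = 0) (hy : y ∈ U) (hyD : y ∈ centralizer (zl S P : Set G))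
    (hye : pi a b v y = y) : pi a b u y = 1 := by
  rw [← hye]
  refine h.orth hu hv hβ hvA (fun j => ?_) (fun j => ?_) hy hyD
  · by_cases hj : j = i
    · rw [hj, Pi.single_eq_same]; exact Or.inr rfl
    · rw [Pi.single_eq_of_ne hj]; exact Or.inl rfl
  · by_cases hj : j = i
    · rw [hj]; exact Or.inl h0
    · rw [Pi.single_eq_of_ne hj]; exact Or.inr rfl

/-- `pi u` is injective on the `i`-th centre if `u` does not centralise the `i`-th factor. -/
theorem inj_cen {i : Fin k} {v : G} (hv : v ∈ U) (hvA : Up M v (Pi.single i 1)) {u y : G} (hu : u ∈ U)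
    {β : Fin k → F} (hβ : Up M u β) (h0 : β i ≠ 0) (hy : y ∈ U) (hyD : y ∈ centralizer (zl S P : Set G))
    (hye : pi a b v y = y) (h1 : pi a b u y = 1) : y = 1 := by
  obtain ⟨x, hx, hxA⟩ := h.exists_up (Function.update 1 i (β i))
  refine h.inj hx hxA (fun j => ?_) hy hyD ?_
  · by_cases hj : j = i
    · rw [hj, Function.update_self]; exact h0
    · rw [Function.update_of_ne hj]; exact one_ne_zero
  · rw [h.pi_eq_of hv hvA hx hu hxA hβ (by rw [Function.update_self]) hy hyD hye, h1]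

theorem gen {v : Fin k → G} (hv : ∀ i, v i ∈ U) (hvA : ∀ i, Up M (v i) (Pi.single i 1)) {R : Subgroup G}
    (hR : ∀ i, h.cenS (hv i) ≤ R) {y : G} (hy : y ∈ U) (hyD : y ∈ centralizer (zl S P : Set G)) : y ∈ R := by
  have key : ∀ (I : Finset (Fin k)) (u : G), u ∈ U → Up M u (fun i => if i ∈ I then 1 else 0) →
      pi a b u y ∈ R := by
    intro I
    induction I using Finset.induction_on with
    | empty =>
      intro u hu hβ
      have e : (fun i => if i ∈ (∅ : Finset (Fin k)) then (1 : F) else 0) = 0 := by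
        funext i
        rw [if_neg (Finset.notMem_empty i)]
        rfl
      rw [e] at hβ
      rw [h.co.pi_eq_one hu (Up.cent (h.UP hu) hβ) hy hyD]
      exact one_mem _
    | insert i I hi ih =>
      intro u hu hβ
      obtain ⟨u1, hu1, hu1A⟩ := h.exists_up fun j => if j ∈ I then 1 else 0
      have e : pi a b u y = pi a b (v i * u1) y := by
        refine h.co.pi_congr hu (mul_mem (hv i) hu1) ?_ hy hyD
        refine mem_cent_of_eq (M := M) (h.UP hu) (mul_mem (h.UP (hv i)) (h.UP hu1)) hβ ?_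
        have h1 := Up.mul (h.UP hu1) (hvA i) hu1A
        have e : (Pi.single i 1 + fun j => if j ∈ I then (1 : F) else 0) =
            fun j => if j ∈ insert i I then (1 : F) else 0 := by
          funext j
          rw [Pi.add_apply]
          by_cases hj : j = i
          · rw [hj, Pi.single_eq_same, if_neg hi, if_pos (Finset.mem_insert_self i I), add_zero]
          · rw [Pi.single_eq_of_ne hj, zero_add]
            by_cases hjI : j ∈ I
            · rw [if_pos hjI, if_pos (Finset.mem_insert_of_mem hjI)]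
            · rw [if_neg hjI, if_neg fun h4 => (Finset.mem_insert.1 h4).elim hj hjI]
        rw [e] at h1
        exact h1
      rw [e, h.co.mul_pi (hv i) hu1 hyD]
      refine mul_mem (hR i ?_) (ih u1 hu1 hu1A)
      obtain ⟨m1, d1⟩ := h.co.pi_mem (y := y) (hv i) hyD
      refine ⟨m1, d1, h.idem (hv i) (hvA i) (fun j => ?_) hy hyD⟩
      by_cases hj : j = i
      · rw [hj, Pi.single_eq_same]; exact Or.inr rfl
      · rw [Pi.single_eq_of_ne hj]; exact Or.inl rfl
  have h1 := key Finset.univ a h.co.aU (by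
    have e : (fun i => if i ∈ (Finset.univ : Finset (Fin k)) then (1 : F) else 0) = fun _ => 1 := by
      funext i
      rw [if_pos (Finset.mem_univ i)]
    rw [e]
    exact h.aA)
  rwa [h.co.pi_a hy hyD] at h1

/-- **The family.** -/
theorem fam [Finite G] {v : Fin k → G} (hv : ∀ i, v i ∈ U) (hvA : ∀ i, Up M (v i) (Pi.single i 1)) :
    Fam (normalizer (U : Set G)) U (U ⊓ centralizer (zl S P : Set G)) (fun i => U ⊓ centralizer (fac M i : Set G))
      (fun i => h.cenS (hv i)) (fun i => cj (a * b) (h.cenS (hv i))) where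
  YU := inf_le_left
  MU := fun m hm u hu => (mem_normalizer_iff.1 hm u).1 hu
  AU := fun i => inf_le_left
  YA := fun i => inf_le_inf_left _ (centralizer_le fun x hx => hx.1)
  inter := by
    intro u hu hA
    obtain ⟨β, hβ⟩ := h.exists_b hu
    refine ⟨hu, ?_⟩
    have h0 : β = 0 := funext fun i => (up_eq_zero_iff (M := M) (h.UP hu) hβ i).2 (hA i).2
    rw [h0] at hβ
    exact Up.cent (h.UP hu) hβ
  YcY := fun i y hy => ⟨hy.1, hy.2.1⟩
  gen := fun R hR y hy => h.gen hv hvA hR hy.1 hy.2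
  EM := by
    intro i t ht
    rw [mem_cj] at ht
    have h1 := h.co.rho_D ht.2.1
    have e : a * b * ((a * b)⁻¹ * t * (a * b)) * (a * b)⁻¹ = t := by group
    rw [e] at h1
    exact h.cent h1
  cent := by
    intro i x hx t ht
    rw [mem_cj] at ht
    obtain ⟨β, hβ⟩ := h.exists_b hx.1
    have h0 := (up_eq_zero_iff (M := M) (h.UP hx.1) hβ i).2 hx.2
    have h1 := h.pi_cen_eq_one (hv i) (hvA i) hx.1 hβ h0 ht.1 ht.2.1 ht.2.2
    unfold pi at h1
    have e : a * b * ((a * b)⁻¹ * t * (a * b)) * (a * b)⁻¹ = t := by group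
    rw [e] at h1
    calc x * t = x * t * x⁻¹ * t⁻¹ * (t * x) := by group
      _ = t * x := by rw [h1, one_mul]
  comm := by
    intro i u hu t ht
    rw [mem_cj] at ht
    have h1 := h.pi_mem_cen (hv i) (hvA i) hu ht.1 ht.2.1 ht.2.2
    obtain ⟨m1, d1⟩ := h.co.pi_mem (y := (a * b)⁻¹ * t * (a * b)) hu ht.2.1
    have e : a * b * ((a * b)⁻¹ * t * (a * b)) * (a * b)⁻¹ = t := by group
    have e1 : pi a b u ((a * b)⁻¹ * t * (a * b)) = u * t * u⁻¹ * t⁻¹ := by
      unfold pi
      rw [e]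
    rw [← e1]
    exact ⟨m1, d1, h1⟩
  full := by
    intro i u hu huA y hy
    obtain ⟨β, hβ⟩ := h.exists_b hu
    have h0 : β i ≠ 0 := fun h0 => huA ⟨hu, (up_eq_zero_iff (M := M) (h.UP hu) hβ i).1 h0⟩
    -- `pi u` on the centre
    have hinj : Function.Injective (fun x : h.cenS (hv i) => (⟨pi a b u x, by
        obtain ⟨m1, d1⟩ := h.co.pi_mem (y := (x : G)) hu x.2.2.1
        exact ⟨m1, d1, h.pi_mem_cen (hv i) (hvA i) hu x.2.1 x.2.2.1 x.2.2.2⟩⟩ : h.cenS (hv i))) := by
      intro x y hxy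
      have h1 : pi a b u x = pi a b u y := congrArg Subtype.val hxy
      have h2 : (x : G) * y ∈ h.cenS (hv i) := mul_mem x.2 y.2
      have h3 : pi a b u (x * y) = 1 := by
        rw [h.co.pi_mul hu x.2.1 x.2.2.1 y.2.1 y.2.2.1, h1]
        exact h.sq _ (h.co.pi_mem (y := (y : G)) hu y.2.2.1).1
      have h4 := h.inj_cen (hv i) (hvA i) hu hβ h0 h2.1 h2.2.1 h2.2.2 h3
      apply Subtype.ext
      have h5 := eq_inv_of_mul_eq_one_left h4
      rw [h5, h.co.sq' y.2.1]
    obtain ⟨x, hx⟩ := Finite.injective_iff_surjective.1 hinj ⟨y, hy⟩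
    have hx' : pi a b u x = y := congrArg Subtype.val hx
    refine ⟨a * b * x * (a * b)⁻¹, ?_, hx'⟩
    rw [mem_cj]
    have e : (a * b)⁻¹ * (a * b * x * (a * b)⁻¹) * (a * b) = x := by group
    rw [e]
    exact x.2
  trans := by
    intro i j
    obtain ⟨s, hs, hsf⟩ := exists_trans M h.SP i j
    refine ⟨s, h.SU hs, ?_⟩
    have h1 : cj s U = U := cj_eq_of_mem_normalizer (h.SU hs)
    change cj s (U ⊓ centralizer (fac M i : Set G)) = U ⊓ centralizer (fac M j : Set G)
    rw [← hsf, ← cj_centralizer]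
    ext x
    rw [mem_cj, mem_inf, mem_inf]
    nth_rewrite 2 [← h1]
    rw [mem_cj, mem_cj]

end CompsQ

end Cfsg.Agent.Omega.NOThreeL.ATwo
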