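import Cfsg.Agent.Mrg.Omega.NOThreeL.Star
import Cfsg.Agent.Mrg.Omega.NOThreeL.Plug
import Cfsg.Agent.PLocal.OffenderStep
import Cfsg.Agent.Mrg.Omega.NOThreeL.ATwo.FamQ


/-!
# NO-3L A1, A2: no natural modules (text #16411, helper69)

`D : DataZ S`, `E : Exact S P H`, `V_P` a sum of `k ≥ 1` natural `SL₂(F)`-modules: contradiction, for all finite
fields `F` of characteristic 2.

* `FrQ` : the situation; `ind` : `U_H` induces all upper unitriangular elements of `SL₂(F)^k`;
* `FrQ.cfg` : `CfgQ M U_H`;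
* `false_of_exact` : the contradiction; `a1`, `a2` : the sockets `Main.A1`, `Main.A2`.
-/

set_option autoImplicit false
set_option Elab.async false

namespace Cfsg.Agent.Omega.NOThreeL.ATwo

open Subgroup Cfsg Cfsg.Agent.ZN Cfsg.Agent.Omega.FrameNOFF
open Cfsg.Agent.ZN.ChoiceBase hiding mem_zc
open Cfsg.Agent.Omega.MinPar Cfsg.Agent.Omega.FFThm Cfsg.Agent.Omega.Node.NO3L Cfsg.Agent.Omega.Frame
open Cfsg.Agent.Omega.NOThreeL.Basic Cfsg.Agent.Omega.NOThreeL.Main
open Cfsg.Agent.MinSimple.VModule (le_normalizer_zl zl_le zc_le_zl zc_le mem_zc zl_comm zl_sq le_o2 o2_isPGroup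
  le_normalizer_o2 le_centralizer_zc o2_le)
open Cfsg.Agent.Omega.NatPair (ap ap_mul ap_one ap_inv_ap ap_ap_inv exists_ap ap_add)
open Cfsg.Agent.Omega.IId (Ind exists_ind exists_trans)
open scoped Pointwise

universe u

variable {G : Type u} [Group G] [Finite G] {S : Sylow 2 G} {P H : Subgroup G} {F : Type} [Field F] {k : ℕ}

/-- The situation. -/
structure FrQ (S : Sylow 2 G) (P H : Subgroup G) (M : NatK F (S : Subgroup G) P (zl (S : Subgroup G) P) ⊥ k) : Prop
    where
  hc : IsCharacteristicTwoType G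
  ne : (S : Subgroup G) ≠ ⊥
  D : Data (S : Subgroup G)
  E : Exact (S : Subgroup G) P H
  pos : 0 < k

namespace FrQ

variable {M : NatK F (S : Subgroup G) P (zl (S : Subgroup G) P) ⊥ k} (h : FrQ S P H M)
include h

theorem SP : (S : Subgroup G) ≤ P := h.E.par.le

theorem SH : (S : Subgroup G) ≤ H := h.E.long.loc.le

theorem US : zl (S : Subgroup G) H ≤ (S : Subgroup G) := IsLong.zl_le_S h.hc h.E.long

theorem UP : zl (S : Subgroup G) H ≤ P := h.US.trans h.SP

theorem VS : zl (S : Subgroup G) P ≤ (S : Subgroup G) := IsParS.zl_le_S h.hc h.E.par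

theorem ab : ∀ u ∈ zl (S : Subgroup G) H, ∀ v ∈ zl (S : Subgroup G) H, u * v = v * u := by
  intro u hu v hv
  have h1 := (NOThreeL.Pair.zl_abel h.hc S h.E.long.loc).1
  exact mem_centralizer_iff.1 (h1 hv) u hu

theorem sq : ∀ u ∈ zl (S : Subgroup G) H, u * u = 1 := by
  intro u hu
  have h1 := (mem_zc.1 (h.E.long.loc.zl_le S h.hc hu)).2.2
  rwa [pow_two] at h1

/-- `U_H` induces all upper unitriangular elements of `SL₂(F)^k`. -/
theorem ind : Ind M (zl (S : Subgroup G) H) Set.univ := by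
  obtain ⟨I, hI⟩ := exists_ind M h.US h.E.off
  have hI' : I = Set.univ := by
    by_contra hne
    obtain ⟨j, hj⟩ : ∃ j, j ∉ I := by
      by_contra hcon
      push Not at hcon
      exact hne (Set.eq_univ_of_forall hcon)
    refine h.E.off.ne fun u hu => ?_
    obtain ⟨b, hb, hub⟩ := hI.act u hu
    have hb0 : b = 0 := by
      funext i
      by_contra h0
      obtain ⟨t, ht, htf⟩ := exists_trans M h.SP j i
      have hu' : t⁻¹ * u * t ∈ zl (S : Subgroup G) H := by
        have h1 := (mem_normalizer_iff.1 (inv_mem (le_normalizer_zl _ _ (h.SH ht))) u).1 hu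
        rwa [inv_inv] at h1
      obtain ⟨b', hb', hub'⟩ := hI.act _ hu'
      have h2 := (up_eq_zero_iff (M := M) (h.UP hu') hub' j).1 (hb' j hj)
      apply h0
      refine (up_eq_zero_iff (M := M) (h.UP hu) hub i).2 ?_
      rw [mem_centralizer_iff] at h2 ⊢
      intro v hv
      have hv' : t⁻¹ * v * t ∈ IId.fac M j := by
        rw [← mem_cj, htf]
        exact hv
      have h3 := h2 _ hv'
      calc v * u = t * ((t⁻¹ * v * t) * (t⁻¹ * u * t)) * t⁻¹ := by group
        _ = t * ((t⁻¹ * u * t) * (t⁻¹ * v * t)) * t⁻¹ := by rw [h3]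
        _ = u * v := by group
    rw [hb0] at hub
    exact Up.cent (M := M) (h.UP hu) hub
  rw [← hI']
  exact hI

/-- A nontrivial `S`-invariant subgroup of `U_H` meets `Z`. -/
theorem core {T : Subgroup G} (hT : T ≤ zl (S : Subgroup G) H)
    (hn : (S : Subgroup G) ≤ normalizer (T : Set G)) (h1 : T ≠ ⊥) :
    ∃ x ∈ T, x ≠ 1 ∧ x ∈ zc (S : Subgroup G) := by
  have : Fact (Nat.Prime 2) := ⟨Nat.prime_two⟩
  have hTp : IsPGroup 2 T := S.isPGroup'.to_le (hT.trans h.US)
  have h2 := Cfsg.Agent.PLocal.OffenderStep.inf_centralizer_ne_bot T (S : Subgroup G) hTp S.isPGroup' hn h1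
  obtain ⟨x, hx, hx1⟩ : ∃ x ∈ T ⊓ centralizer ((S : Subgroup G) : Set G), x ≠ 1 := by
    by_contra hcon
    push Not at hcon
    exact h2 ((eq_bot_iff_forall _).2 hcon)
  rw [mem_inf] at hx
  refine ⟨x, hx.1, hx1, mem_zc.2 ⟨h.US (hT hx.1), fun b hb => mem_centralizer_iff.1 hx.2 b hb, ?_⟩⟩
  rw [pow_two]
  exact h.sq x (hT hx.1)

theorem cfg : CfgQ M (zl (S : Subgroup G) H) where
  pos := h.pos
  SP := h.SP
  ind := h.ind
  UP := h.UP
  SU := h.SH.trans (le_normalizer_zl _ _)
  cent := ((centralizer_le (zc_le_zl _ _)).trans h.E.long.cz).trans (le_normalizer_zl _ _)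
  ab := h.ab
  sq := h.sq
  core := by
    intro T hT hn h1
    obtain ⟨x, hx, hx1, hxz⟩ := h.core hT hn h1
    exact ⟨x, hx, hx1, zc_le_zl _ _ hxz⟩

/-- `W_H` centralises `V`. -/
theorem WV : W (S : Subgroup G) H ≤ centralizer (zl (S : Subgroup G) P : Set G) := by
  have h1 : W (S : Subgroup G) H ≤ WP (S : Subgroup G) := W_le fun P hP _ c hc => line_le_WP hP hc
  have h2 := Basic.comm_of_le h.hc h.D (x := 1) (y := 1) (by
    rw [map_one, one_smul, one_smul]; exact WP_le_Q h.D) (by
    rw [map_one, one_smul, one_smul]; exact WP_le_Q h.D)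
  rw [map_one, one_smul] at h2
  exact (h1.trans h2).trans (centralizer_le (zl_le_WP h.E.par))

omit [Finite G] h in
theorem smul_eq_cj (g : G) (A : Subgroup G) : MulAut.conj g • A = cj g A := by
  ext x
  rw [NoFF.Basic.mem_conj, mem_cj]

theorem false_of [CharP F 2] : False := by
  obtain ⟨a, b, w, U', hC⟩ := h.cfg.exists_comps
  choose v hv hvA using fun i : Fin k => hC.exists_up (Pi.single i 1)
  have hF := hC.fam hv hvA
  have hWU : W (S : Subgroup G) H ≤ zl (S : Subgroup G) H := W_le_zl h.E.long.cz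
  have hWY : W (S : Subgroup G) H ≤
      zl (S : Subgroup G) H ⊓ centralizer (zl (S : Subgroup G) P : Set G) := le_inf hWU h.WV
  have hWn : centralizer (zc (S : Subgroup G) : Set G) ≤ normalizer (W (S : Subgroup G) H : Set G) :=
    CZ_le_normalizer_W _ _
  have hZ : zc (S : Subgroup G) ≤ zl (S : Subgroup G) H ⊓ centralizer (zl (S : Subgroup G) P : Set G) := by
    refine le_inf (zc_le_zl _ _) ?_
    rw [le_centralizer_iff]
    exact h.VS.trans (le_centralizer_zc _)
  have h1 := conn_W S h.E.long.loc (zl (S : Subgroup G) H ⊓ centralizer (zl (S : Subgroup G) P : Set G)) hZ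
    fun g hg hgZ => by
      rw [smul_eq_cj] at hgZ ⊢
      exact hF.claim hWY hWn hg hgZ
  exact h.E.off.ne (h1.trans inf_le_right)

end FrQ

/-- **No natural modules** (text #16411): the frames of A1 and A2 are void. -/
theorem false_of_exact (hG : Frame.Ctx G) {S : Sylow 2 G} (D : DataZ (S : Subgroup G)) {P H : Subgroup G}
    (E : Exact (S : Subgroup G) P H) {F : Type} [Field F] [CharP F 2] {k : ℕ} (hk : 0 < k)
    (M : NatK F (S : Subgroup G) P (zl (S : Subgroup G) P) (FrameFF.cv (S : Subgroup G) P) k) : False := by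
  have h1 := DataZ.cv_eq hG.char2 D E.par
  rw [h1] at M
  exact FrQ.false_of (M := M) ⟨hG.char2, hG.sylow_ne_bot S, D.toData, E, hk⟩

/-- **The leaf A1.** -/
theorem a1 (K : Cls.{u}) : Main.A1 K := by
  intro G _ _ hG _ S _ D P H E F _ _ _ M
  exact (false_of_exact hG D E Nat.one_pos M).elim

/-- **The leaf A2.** -/
theorem a2 (K : Cls.{u}) : Main.A2 K := by
  intro G _ _ hG _ S _ D P H E F _ _ _ k hk M
  exact (false_of_exact hG D E (by omega) M).elim

end Cfsg.Agent.Omega.NOThreeL.ATwo
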