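import Cfsg.Agent.Mrg.Omega.NOThreeL.ATwo.Comp
import Cfsg.Agent.Omega.NOThreeL.ATwo.Core2


/-!
# NO-3L A2, all `q` (text #16411 (1), (2), helper69)

`M : NatK F S P (zl S P) ⊥ k`, `V = zl S P`; `U` elementary abelian, normalised by `S` and `C_G(V)`, induces all upper
unitriangular elements of `SL₂(F)^k` on `V`; every nontrivial `S`-invariant subgroup of `U` contains a nontrivial
element of `V`.

* `CfgQ.inf_eq` : `U ∩ U^w = 1` for `w ∈ P` acting as antidiagonal matrices;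
* `CfgQ.exists_comps` : the pair `U`, `U^w` over `C_G(V)` (`CompsQ`);
* `CompsQ.idem`, `CompsQ.orth`, `CompsQ.inj` : `pi u` is idempotent for 0/1-vectors, `pi u (pi v y) = 1` for disjoint
  supports (`v` a 0/1-vector), `pi u` is injective for full support.
-/

set_option autoImplicit false
set_option Elab.async false

namespace Cfsg.Agent.Omega.NOThreeL.ATwo

open Subgroup Cfsg Cfsg.Agent.ZN Cfsg.Agent.ZN.ChoiceBase
open Cfsg.Agent.Omega.MinPar Cfsg.Agent.Omega.FFThm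
open Cfsg.Agent.MinSimple.VModule (le_normalizer_zl)
open Cfsg.Agent.Lib.SL2Mat
open Cfsg.Agent.Omega.NatPair (ap ap_mul ap_one ap_inv_ap ap_ap_inv exists_ap ap_add)
open Cfsg.Agent.Omega.IId (Ind cj_mem cj_mem' e_inj acts_mul acts_inv acts_one sg sg_spec e_one e_inv)

universe u

variable {G : Type u} [Group G] {F : Type} [Field F] {S P : Subgroup G} {k : ℕ}

section mat

variable [CharP F 2]

theorem wm_up_c (c : F) (hc : c ≠ 0) (b : F) : wm c hc * up b * (wm c hc)⁻¹ = lo (-(c⁻¹ * c⁻¹ * b)) := by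
  rw [ent_inv]
  refine ext_ent ?_ ?_ ?_ ?_ <;> simp only [ent_mul, wm_00, wm_01, wm_10, wm_11, up_00, up_01, up_10, up_11,
    lo_00, lo_01, lo_10, lo_11, mk_00, mk_01, mk_10, mk_11] <;> field_simp <;> ring

theorem wm_inv_up (b : F) : (wm (1 : F) one_ne_zero)⁻¹ * up b * wm (1 : F) one_ne_zero = lo b := by
  have h2 : (2 : F) = 0 := CharTwo.two_eq_zero
  rw [ent_inv]
  refine ext_ent ?_ ?_ ?_ ?_ <;> simp only [ent_mul, wm_00, wm_01, wm_10, wm_11, up_00, up_01, up_10, up_11,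
    lo_00, lo_01, lo_10, lo_11, mk_00, mk_01, mk_10, mk_11, inv_one]
  · ring
  · ring
  · linear_combination (-b) * h2
  · ring

/-- `lo β = up β⁻¹ (antidiagonal) up β⁻¹` -/
theorem up_lo_up (β : F) (hβ : β ≠ 0) :
    (up β⁻¹)⁻¹ * lo β * (up β⁻¹)⁻¹ = wm (-β⁻¹) (neg_ne_zero.2 (inv_ne_zero hβ)) := by
  rw [up_inv]
  refine ext_ent ?_ ?_ ?_ ?_ <;> simp only [ent_mul, wm_00, wm_01, wm_10, wm_11, up_00, up_01, up_10, up_11,
    lo_00, lo_01, lo_10, lo_11] <;> field_simp <;> ring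

theorem wm_rho : (wm (1 : F) one_ne_zero)⁻¹ * (up (1 : F) * lo (1 : F)) = up 1 := by
  have h2 : (2 : F) = 0 := CharTwo.two_eq_zero
  rw [ent_inv]
  refine ext_ent ?_ ?_ ?_ ?_ <;> simp only [ent_mul, wm_00, wm_01, wm_10, wm_11, up_00, up_01, up_10, up_11,
    lo_00, lo_01, lo_10, lo_11, mk_00, mk_01, mk_10, mk_11, inv_one]
  · linear_combination (-1 : F) * h2
  · linear_combination (-1 : F) * h2
  · linear_combination (1 : F) * h2
  · ring

end mat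

structure CfgQ (M : NatK F S P (zl S P) ⊥ k) (U : Subgroup G) : Prop where
  pos : 0 < k
  SP : S ≤ P
  ind : Ind M U Set.univ
  UP : U ≤ P
  SU : S ≤ normalizer (U : Set G)
  cent : centralizer (zl S P : Set G) ≤ normalizer (U : Set G)
  ab : ∀ u ∈ U, ∀ v ∈ U, u * v = v * u
  sq : ∀ u ∈ U, u * u = 1
  core : ∀ T : Subgroup G, T ≤ U → S ≤ normalizer (T : Set G) → T ≠ ⊥ → ∃ x ∈ T, x ≠ 1 ∧ x ∈ zl S P

variable {M : NatK F S P (zl S P) ⊥ k}

namespace CfgQ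

variable {U : Subgroup G} (h : CfgQ M U)
include h

theorem cent_conj {g d x : G} (hg : g ∈ P) (hd : d ∈ centralizer (zl S P : Set G)) (hx : x ∈ cj g U) :
    d * x * d⁻¹ ∈ cj g U := by
  rw [mem_cj] at hx ⊢
  have h1 : g⁻¹ * d * g ∈ centralizer (zl S P : Set G) := by
    have := Cfg.cent_norm (inv_mem hg) hd
    rwa [inv_inv] at this
  have h3 := (mem_normalizer_iff.1 (h.cent h1) _).1 hx
  have e : g⁻¹ * (d * x * d⁻¹) * g = g⁻¹ * d * g * (g⁻¹ * x * g) * (g⁻¹ * d * g)⁻¹ := by group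
  rwa [e]

/-- Elements of `P` acting in the same way conjugate `U` to the same group. -/
theorem cj_congr {g x : G} (hx : x ∈ P) {A : Fin k → Matrix.SpecialLinearGroup (Fin 2) F} (hg : g ∈ P)
    (h1 : ActsSL M.e (zl S P) ⊥ g A) (h2 : ActsSL M.e (zl S P) ⊥ x A) : cj g U = cj x U := by
  have h3 : x⁻¹ * g ∈ centralizer (zl S P : Set G) := by
    refine mem_cent_of_acts (M := M) (mul_mem (inv_mem hx) hg) ?_
    have h3 := acts_mul hg (acts_inv hx h2) h1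
    rwa [inv_mul_cancel] at h3
  have h4 := cj_eq_of_mem_normalizer (h.cent h3)
  rw [← cj_cj] at h4
  have h5 := congrArg (cj x) h4
  rwa [cj_cj_inv] at h5

variable [CharP F 2]

theorem exists_up (b : Fin k → F) : ∃ u ∈ U, Up M u b :=
  h.ind.ex b fun _ hi => (hi (Set.mem_univ _)).elim

theorem exists_b {u : G} (hu : u ∈ U) : ∃ b : Fin k → F, Up M u b := by
  obtain ⟨b, -, hb⟩ := h.ind.act u hu
  exact ⟨b, hb⟩

/-- `U^w` induces all lower unitriangular elements. -/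
theorem exists_lo {w : G} (hw : w ∈ P) {c : Fin k → F} {hc : ∀ i, c i ≠ 0}
    (hwA : ActsSL M.e (zl S P) ⊥ w fun i => wm (c i) (hc i)) (b : Fin k → F) :
    ∃ v ∈ cj w U, v ∈ P ∧ ActsSL M.e (zl S P) ⊥ v fun i => lo (b i) := by
  obtain ⟨u, hu, hub⟩ := h.exists_up fun i => -(c i * c i * b i)
  refine ⟨w * u * w⁻¹, ?_, mul_mem (mul_mem hw (h.UP hu)) (inv_mem hw), ?_⟩
  · rw [mem_cj]
    have e : w⁻¹ * (w * u * w⁻¹) * w = u := by group
    rwa [e]
  · have h1 := acts_conj hw (h.UP hu) hwA hub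
    have e : ((fun i => wm (c i) (hc i)) * (fun i => up (-(c i * c i * b i))) * (fun i => wm (c i) (hc i))⁻¹ :
        Fin k → Matrix.SpecialLinearGroup (Fin 2) F) = fun i => lo (b i) := by
      funext i
      rw [Pi.mul_apply, Pi.mul_apply, Pi.inv_apply, wm_up_c]
      congr 1
      have := hc i
      field_simp
    rwa [e] at h1

/-- **(1)** `U ∩ U^w = 1`. -/
theorem inf_eq {w : G} (hw : w ∈ P) {c : Fin k → F} {hc : ∀ i, c i ≠ 0}
    (hwA : ActsSL M.e (zl S P) ⊥ w fun i => wm (c i) (hc i)) : U ⊓ cj w U = ⊥ := by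
  -- `U` and `U^w` centralise `T`
  have cU : ∀ u ∈ U, ∀ t ∈ U ⊓ cj w U, u * t = t * u := fun u hu t ht => h.ab u hu t (mem_inf.1 ht).1
  have cU' : ∀ v ∈ cj w U, ∀ t ∈ U ⊓ cj w U, v * t = t * v := by
    intro v hv t ht
    have h1 := h.ab _ (mem_cj.1 hv) _ (mem_cj.1 (mem_inf.1 ht).2)
    calc v * t = w * ((w⁻¹ * v * w) * (w⁻¹ * t * w)) * w⁻¹ := by group
      _ = w * ((w⁻¹ * t * w) * (w⁻¹ * v * w)) * w⁻¹ := by rw [h1]
      _ = t * v := by group
  -- elements of `SL₂(F)^k`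
  have hSL : ∀ g ∈ P, ∀ A, ActsSL M.e (zl S P) ⊥ g A → ∃ x ∈ P, (∀ t ∈ U ⊓ cj w U, x * t = t * x) ∧
      g * x⁻¹ ∈ centralizer (zl S P : Set G) := by
    intro g hg A hA
    choose α β γ δ hABCD using fun i => exists_up_lo (A i)
    obtain ⟨u1, hu1, hu1A⟩ := h.exists_up α
    obtain ⟨v1, hv1, hv1P, hv1A⟩ := h.exists_lo hw hwA β
    obtain ⟨u2, hu2, hu2A⟩ := h.exists_up γ
    obtain ⟨v2, hv2, hv2P, hv2A⟩ := h.exists_lo hw hwA δ
    have hx := acts_mul hv2P (acts_mul (h.UP hu2) (acts_mul hv1P hu1A hv1A) hu2A) hv2A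
    have hxP : u1 * v1 * u2 * v2 ∈ P := mul_mem (mul_mem (mul_mem (h.UP hu1) hv1P) (h.UP hu2)) hv2P
    refine ⟨u1 * v1 * u2 * v2, hxP, fun t ht => ?_, ?_⟩
    · have a1 := cU u1 hu1 t ht
      have a2 := cU' v1 hv1 t ht
      have a3 := cU u2 hu2 t ht
      have a4 := cU' v2 hv2 t ht
      calc u1 * v1 * u2 * v2 * t = u1 * v1 * u2 * (v2 * t) := by group
        _ = u1 * v1 * (u2 * t) * v2 := by rw [a4]; group
        _ = u1 * (v1 * t) * u2 * v2 := by rw [a3]; group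
        _ = (u1 * t) * v1 * u2 * v2 := by rw [a2]; group
        _ = t * (u1 * v1 * u2 * v2) := by rw [a1]; group
    · refine mem_cent_of_eq (M := M) hg hxP hA ?_
      have e : ((fun i => up (α i)) * (fun i => lo (β i)) * (fun i => up (γ i)) * (fun i => lo (δ i)) :
          Fin k → Matrix.SpecialLinearGroup (Fin 2) F) = A := by
        funext i
        rw [hABCD i]
        rfl
      rw [← e]
      exact hx
  have hnorm : ∀ g ∈ P, ∀ A, ActsSL M.e (zl S P) ⊥ g A → ∀ t ∈ U ⊓ cj w U, g * t * g⁻¹ ∈ U ⊓ cj w U := by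
    intro g hg A hA t ht
    obtain ⟨x, hx, hxc, hd⟩ := hSL g hg A hA
    have h1 := hxc t ht
    have e : g * t * g⁻¹ = (g * x⁻¹) * t * (g * x⁻¹)⁻¹ := by
      calc g * t * g⁻¹ = (g * x⁻¹) * (x * t) * x⁻¹ * (g * x⁻¹)⁻¹ := by group
        _ = (g * x⁻¹) * (t * x) * x⁻¹ * (g * x⁻¹)⁻¹ := by rw [h1]
        _ = (g * x⁻¹) * t * (g * x⁻¹)⁻¹ := by group
    rw [e, mem_inf]
    refine ⟨(mem_normalizer_iff.1 (h.cent hd) t).1 (mem_inf.1 ht).1, h.cent_conj hw hd (mem_inf.1 ht).2⟩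
  have hSn : ∀ s ∈ S, ∀ t ∈ U ⊓ cj w U, s * t * s⁻¹ ∈ U ⊓ cj w U := by
    intro s hs t ht
    rw [mem_inf]
    refine ⟨(mem_normalizer_iff.1 (h.SU hs) t).1 (mem_inf.1 ht).1, ?_⟩
    rw [mem_cj]
    have hy : s⁻¹ * w⁻¹ * s ∈ P := mul_mem (mul_mem (inv_mem (h.SP hs)) (inv_mem hw)) (h.SP hs)
    obtain ⟨B, hB⟩ := M.norm s⁻¹ (inv_mem (h.SP hs)) w⁻¹ (inv_mem hw) _ (acts_inv hw hwA).1
    rw [inv_inv] at hB
    have h1 := hnorm _ hy B ⟨hB, fun d hd => by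
      rw [mem_bot] at hd
      rw [hd]; group⟩ t ht
    have h2 := (mem_normalizer_iff.1 (h.SU hs) _).1 (mem_inf.1 h1).1
    have e : s * (s⁻¹ * w⁻¹ * s * t * (s⁻¹ * w⁻¹ * s)⁻¹) * s⁻¹ = w⁻¹ * (s * t * s⁻¹) * w := by group
    rwa [e] at h2
  by_contra hne
  obtain ⟨x, hx, hx1, hxV⟩ := h.core _ inf_le_left (by
    intro s hs
    rw [mem_normalizer_iff]
    intro t
    refine ⟨hSn s hs t, fun ht => ?_⟩
    have h1 := hSn s⁻¹ (inv_mem hs) _ ht
    have e : s⁻¹ * (s * t * s⁻¹) * s⁻¹⁻¹ = t := by group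
    rwa [e] at h1) hne
  apply hx1
  obtain ⟨u, hu, huA⟩ := h.exists_up fun _ => 1
  obtain ⟨v, hv, hvP, hvA⟩ := h.exists_lo hw hwA fun _ => 1
  have h1 : u * x * u⁻¹ = x := by rw [cU u hu x hx]; group
  have h2 : v * x * v⁻¹ = x := by rw [cU' v hv x hx]; group
  refine e_inj M hxV (one_mem _) ?_
  rw [e_one]
  funext i
  have h3 := huA.1 x hxV i
  have h4 := hvA.1 x hxV i
  rw [h1] at h3
  rw [h2] at h4
  have h5 := congrFun h3 0
  have h6 := congrFun h4 1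
  rw [NatPair.ap_zero'] at h5
  rw [NatPair.ap_one'] at h6
  simp only [up_00, up_01, lo_10, lo_11, one_mul] at h5 h6
  apply NatPair.ext2
  · exact right_eq_add.1 h6
  · exact left_eq_add.1 h5

end CfgQ

/-- The pair of `U` and its opposite. -/
structure CompsQ (M : NatK F S P (zl S P) ⊥ k) (U U' : Subgroup G) (a b w : G) : Prop extends CfgQ M U where
  co : Co U U' (centralizer (zl S P : Set G)) a b
  aP : a ∈ P
  bP : b ∈ P
  UP' : U' ≤ P
  aA : Up M a fun _ => 1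
  bA : ActsSL M.e (zl S P) ⊥ b fun _ => lo 1
  wP : w ∈ P
  wA : ActsSL M.e (zl S P) ⊥ w fun _ => wm (1 : F) one_ne_zero
  Uw : U' = cj w U

theorem CfgQ.exists_comps [CharP F 2] {U : Subgroup G} (h : CfgQ M U) :
    ∃ (a b w : G) (U' : Subgroup G), CompsQ M U U' a b w := by
  obtain ⟨w, hw, hwA⟩ := M.lift fun _ => wm (1 : F) one_ne_zero
  obtain ⟨a, ha, haA⟩ := h.exists_up fun _ => 1
  have hb : w * a * w⁻¹ ∈ P := mul_mem (mul_mem hw (h.UP ha)) (inv_mem hw)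
  have hbA : ActsSL M.e (zl S P) ⊥ (w * a * w⁻¹) fun _ => lo 1 := by
    have h1 := acts_conj hw (h.UP ha) hwA haA
    have h2 : ((fun _ => wm (1 : F) one_ne_zero) * (fun _ => up 1) * (fun _ => wm (1 : F) one_ne_zero)⁻¹ :
        Fin k → Matrix.SpecialLinearGroup (Fin 2) F) = fun _ => lo 1 := by
      funext i
      rw [Pi.mul_apply, Pi.mul_apply, Pi.inv_apply, wm_up]
    rwa [h2] at h1
  have hU'P : cj w U ≤ P := by
    intro x hx
    rw [mem_cj] at hx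
    have e : x = w * (w⁻¹ * x * w) * w⁻¹ := by group
    rw [e]
    exact mul_mem (mul_mem hw (h.UP hx)) (inv_mem hw)
  have hρ : cj (a * (w * a * w⁻¹)) U = cj w U := by
    -- `w⁻¹ ρ` acts as `up 1`
    have h1 := acts_mul (mul_mem (h.UP ha) hb) (acts_inv hw hwA) (acts_mul hb haA hbA)
    have e : ((fun _ => wm (1 : F) one_ne_zero)⁻¹ * ((fun _ => up 1) * fun _ => lo 1) :
        Fin k → Matrix.SpecialLinearGroup (Fin 2) F) = fun _ => up 1 := by
      funext i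
      rw [Pi.mul_apply, Pi.mul_apply, Pi.inv_apply, wm_rho]
    rw [e] at h1
    have h2 := h.cj_congr (h.UP ha) (mul_mem (inv_mem hw) (mul_mem (h.UP ha) hb)) h1 haA
    have h3 : cj a U = U := cj_eq_of_mem_normalizer (le_normalizer ha)
    rw [h3, ← cj_cj] at h2
    have h5 := congrArg (cj w) h2
    rwa [cj_cj_inv] at h5
  refine ⟨a, w * a * w⁻¹, w, cj w U, ⟨h, ?_, h.UP ha, hb, hU'P, haA, hbA, hw, hwA, rfl⟩⟩
  exact
    { aU := ha
      bU := by
        rw [mem_cj]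
        have e : w⁻¹ * (w * a * w⁻¹) * w = a := by group
        rwa [e]
      ab := h.ab
      ab' := by
        intro u hu v hv
        rw [mem_cj] at hu hv
        have h1 := h.ab _ hu _ hv
        calc u * v = w * ((w⁻¹ * u * w) * (w⁻¹ * v * w)) * w⁻¹ := by group
          _ = w * ((w⁻¹ * v * w) * (w⁻¹ * u * w)) * w⁻¹ := by rw [h1]
          _ = v * u := by group
      sq := h.sq
      inf := by
        intro x hx hx'
        have h1 : x ∈ U ⊓ cj w U := ⟨hx, hx'⟩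
        rwa [h.inf_eq hw hwA, mem_bot] at h1
      DU := by
        intro d hd u hu
        have h1 := h.cent_conj (one_mem P) hd (x := u) (by rwa [cj_one])
        rwa [cj_one] at h1
      DU' := fun d hd u hu => h.cent_conj hw hd hu
      UD := fun u hu d hd => Cfg.cent_norm (h.UP hu) hd
      UD' := fun u hu d hd => Cfg.cent_norm (hU'P hu) hd
      rho := by
        intro u hu
        rw [← hρ, mem_cj]
        have e : (a * (w * a * w⁻¹))⁻¹ * (a * (w * a * w⁻¹) * u * (a * (w * a * w⁻¹))⁻¹) *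
          (a * (w * a * w⁻¹)) = u := by group
        rwa [e] }

namespace CompsQ

variable [CharP F 2] {a b w : G} {U U' : Subgroup G} (h : CompsQ M U U' a b w)
include h

theorem rhoP : a * b ∈ P := mul_mem h.aP h.bP

theorem rho_acts : ActsSL M.e (zl S P) ⊥ (a * b) fun _ => up 1 * lo 1 := by
  have := acts_mul h.bP h.aA h.bA
  exact this

theorem rho_lo {v : G} {c : Fin k → F} (hv : v ∈ P) (hc : Up M v c) :
    ActsSL M.e (zl S P) ⊥ (a * b * v * (a * b)⁻¹) fun i => lo (c i) := by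
  have h1 := acts_conj h.rhoP hv h.rho_acts hc
  have e : ((fun _ => up 1 * lo 1) * (fun i => up (c i)) * (fun _ => up 1 * lo 1)⁻¹ :
      Fin k → Matrix.SpecialLinearGroup (Fin 2) F) = fun i => lo (c i) := by
    funext i
    rw [Pi.mul_apply, Pi.mul_apply, Pi.inv_apply, rho_up]
  rwa [e] at h1

/-- `[u, v^ρ] ∈ C_G(V)` for disjoint supports. -/
theorem disj {u v : G} {β γ : Fin k → F} (hu : u ∈ P) (hv : v ∈ P) (h1 : Up M u β) (h2 : Up M v γ)
    (hd : ∀ i, β i = 0 ∨ γ i = 0) :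
    u * (a * b * v * (a * b)⁻¹) * u⁻¹ * (a * b * v * (a * b)⁻¹)⁻¹ ∈ centralizer (zl S P : Set G) := by
  have h3 := h.rho_lo hv h2
  have hv' : a * b * v * (a * b)⁻¹ ∈ P := mul_mem (mul_mem h.rhoP hv) (inv_mem h.rhoP)
  refine mem_cent_of_acts (M := M) (mul_mem (mul_mem (mul_mem hu hv') (inv_mem hu)) (inv_mem hv')) ?_
  have h4 := acts_mul (inv_mem hv') (acts_mul (inv_mem hu) (acts_mul hv' h1 h3) (acts_inv hu h1))
    (acts_inv hv' h3)
  have e : ((fun i => up (β i)) * (fun i => lo (γ i)) * (fun i => up (β i))⁻¹ * (fun i => lo (γ i))⁻¹ :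
      Fin k → Matrix.SpecialLinearGroup (Fin 2) F) = 1 := by
    funext i
    rw [Pi.mul_apply, Pi.mul_apply, Pi.mul_apply, Pi.inv_apply, Pi.inv_apply, Pi.one_apply]
    rcases hd i with h0 | h0
    · rw [h0, up_zero]; group
    · rw [h0, lo_zero]; group
  rwa [e] at h4

/-- `pi v` is idempotent for a 0/1-vector. -/
theorem idem {u y : G} {β : Fin k → F} (hu : u ∈ U) (hβ : Up M u β) (h01 : ∀ i, β i = 0 ∨ β i = 1) (hy : y ∈ U)
    (hyD : y ∈ centralizer (zl S P : Set G)) : pi a b u (pi a b u y) = pi a b u y := by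
  obtain ⟨v, hv, hvA⟩ := h.exists_up (1 + β)
  have h2 : (1 : F) + 1 = 0 := CharTwo.add_self_eq_zero 1
  have hd : ∀ i, β i = 0 ∨ (1 + β) i = 0 := by
    intro i
    rcases h01 i with h0 | h0
    · exact Or.inl h0
    · right
      rw [Pi.add_apply, Pi.one_apply, h0, h2]
  have hd' : ∀ i, (1 + β) i = 0 ∨ β i = 0 := fun i => (hd i).symm
  refine h.co.idem hu hv (h.disj (h.UP hu) (h.UP hv) hβ hvA hd) (h.disj (h.UP hv) (h.UP hu) hvA hβ hd') ?_ hy hyD
  refine Up.congr (M := M) (b := β + (1 + β)) (mul_mem (h.UP hu) (h.UP hv)) h.aP (Up.mul (h.UP hv) hβ hvA) ?_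
  have e : β + (1 + β) = fun _ => 1 := by
    funext i
    rw [Pi.add_apply, Pi.add_apply, Pi.one_apply]
    linear_combination (β i) * h2
  rw [e]
  exact h.aA

theorem comm {u v y : G} {β γ : Fin k → F} (hu : u ∈ U) (hv : v ∈ U) (h1 : Up M u β) (h2 : Up M v γ)
    (hd : ∀ i, β i = 0 ∨ γ i = 0) (hy : y ∈ U) (hyD : y ∈ centralizer (zl S P : Set G)) :
    pi a b u (pi a b v y) = pi a b v (pi a b u y) :=
  h.co.pi_comm hu hv (h.disj (h.UP hu) (h.UP hv) h1 h2 hd)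
    (h.disj (h.UP hv) (h.UP hu) h2 h1 fun i => (hd i).symm) hy hyD

theorem orth {u v y : G} {β γ : Fin k → F} (hu : u ∈ U) (hv : v ∈ U) (h1 : Up M u β) (h2 : Up M v γ)
    (h01 : ∀ i, γ i = 0 ∨ γ i = 1) (hd : ∀ i, β i = 0 ∨ γ i = 0) (hy : y ∈ U)
    (hyD : y ∈ centralizer (zl S P : Set G)) : pi a b u (pi a b v y) = 1 :=
  h.co.orth' hu hv (h.disj (h.UP hu) (h.UP hv) h1 h2 hd)
    (h.disj (h.UP hv) (h.UP hu) h2 h1 fun i => (hd i).symm) (fun _ hx hxD => h.idem hv h2 h01 hx hxD) hy hyD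

/-- `pi v` is injective for `v` of full support. -/
theorem inj {v y : G} {β : Fin k → F} (hv : v ∈ U) (hβ : Up M v β) (hne : ∀ i, β i ≠ 0) (hy : y ∈ U)
    (hyD : y ∈ centralizer (zl S P : Set G)) (h0 : pi a b v y = 1) : y = 1 := by
  obtain ⟨hZ, -⟩ := h.co.rho_Y hy hyD
  set Z := a * b * y * (a * b)⁻¹ with hZe
  have hc : v * Z * v⁻¹ = Z := by
    have h1 : v * Z * v⁻¹ * Z⁻¹ = 1 := h0
    exact mul_inv_eq_one.1 h1
  have hwP := h.wP
  -- `m = w⁻¹ v w` acts as `lo β`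
  have hmP : w⁻¹ * v * w ∈ P := mul_mem (mul_mem (inv_mem hwP) (h.UP hv)) hwP
  have hmA : ActsSL M.e (zl S P) ⊥ (w⁻¹ * v * w) fun i => lo (β i) := by
    have h1 := acts_mul hwP (acts_mul (h.UP hv) (acts_inv hwP h.wA) hβ) h.wA
    have e : ((fun _ => wm (1 : F) one_ne_zero)⁻¹ * (fun i => up (β i)) * (fun _ => wm (1 : F) one_ne_zero) :
        Fin k → Matrix.SpecialLinearGroup (Fin 2) F) = fun i => lo (β i) := by
      funext i
      rw [Pi.mul_apply, Pi.mul_apply, Pi.inv_apply, wm_inv_up]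
    rwa [e] at h1
  obtain ⟨u, hu, huA⟩ := h.exists_up fun i => (β i)⁻¹
  have hui : ActsSL M.e (zl S P) ⊥ u⁻¹ (fun i => up (β i)⁻¹)⁻¹ := acts_inv (h.UP hu) huA
  have hw1P : u⁻¹ * (w⁻¹ * v * w) * u⁻¹ ∈ P := mul_mem (mul_mem (inv_mem (h.UP hu)) hmP) (inv_mem (h.UP hu))
  have hw1A : ActsSL M.e (zl S P) ⊥ (u⁻¹ * (w⁻¹ * v * w) * u⁻¹)
      fun i => wm (-(β i)⁻¹) (neg_ne_zero.2 (inv_ne_zero (hne i))) := by
    have h1 := acts_mul (inv_mem (h.UP hu)) (acts_mul hmP hui hmA) hui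
    have e : ((fun i => up (β i)⁻¹)⁻¹ * (fun i => lo (β i)) * (fun i => up (β i)⁻¹)⁻¹ :
        Fin k → Matrix.SpecialLinearGroup (Fin 2) F) =
        fun i => wm (-(β i)⁻¹) (neg_ne_zero.2 (inv_ne_zero (hne i))) := by
      funext i
      rw [Pi.mul_apply, Pi.mul_apply, Pi.inv_apply, up_lo_up _ (hne i)]
    rwa [e] at h1
  have hinf := h.inf_eq hw1P hw1A
  -- `t = u⁻¹ (w⁻¹ Z w) u`
  have ht1 : w⁻¹ * Z * w ∈ U := by
    rw [h.Uw, mem_cj] at hZ
    exact hZ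
  have ht2 : (w⁻¹ * v * w) * (w⁻¹ * Z * w) * (w⁻¹ * v * w)⁻¹ = w⁻¹ * Z * w := by
    calc (w⁻¹ * v * w) * (w⁻¹ * Z * w) * (w⁻¹ * v * w)⁻¹ = w⁻¹ * (v * Z * v⁻¹) * w := by group
      _ = w⁻¹ * Z * w := by rw [hc]
  have ht3 : w⁻¹ * Z * w ∈ U ⊓ cj (u⁻¹ * (w⁻¹ * v * w) * u⁻¹) U := by
    refine mem_inf.2 ⟨ht1, ?_⟩
    rw [mem_cj]
    set t := w⁻¹ * Z * w with hte
    set m := w⁻¹ * v * w with hme
    have e1 : (u⁻¹ * m * u⁻¹)⁻¹ * t * (u⁻¹ * m * u⁻¹) = u * (m⁻¹ * (u * t * u⁻¹) * m) * u⁻¹ := by group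
    have e2 : u * t * u⁻¹ = t := by rw [h.ab u hu t ht1]; group
    have e3 : m⁻¹ * t * m = t := by
      calc m⁻¹ * t * m = m⁻¹ * (m * t * m⁻¹) * m := by rw [ht2]
        _ = t := by group
    rw [e1, e2, e3, e2]
    exact ht1
  rw [hinf, mem_bot] at ht3
  have hZ1 : Z = 1 := by
    calc Z = w * (w⁻¹ * Z * w) * w⁻¹ := by group
      _ = 1 := by rw [ht3]; group
  calc y = (a * b)⁻¹ * Z * (a * b) := by rw [hZe]; group
    _ = 1 := by rw [hZ1]; group

end CompsQ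

end Cfsg.Agent.Omega.NOThreeL.ATwo
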